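import Mathlib
import Groth.Prelude.Def_W4stkflatp2Cpct

/-!
# The category of compactifications: basic API (helper5)
-/
set_option autoImplicit false
universe u
open CategoryTheory CategoryTheory.Limits AlgebraicGeometry

namespace Groth.Agent.Lib.Helper5.CpctLoc

variable {S : Scheme.{u}}

@[reassoc]
theorem restr_ι {A B : Cpct.Pair S} (f : A ⟶ B) :
    Cpct.restr f ≫ B.U.ι = A.U.ι ≫ (Cpct.Pair.Hom.bar f).left := by
  simp [Cpct.restr]

theorem restr_id (A : Cpct.Pair S) : Cpct.restr (𝟙 A) = 𝟙 _ :=
  congrArg (fun t => t.left) (Cpct.openOver.map_id A)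

theorem restr_comp {A B C : Cpct.Pair S} (f : A ⟶ B) (g : B ⟶ C) :
    Cpct.restr (f ≫ g) = Cpct.restr f ≫ Cpct.restr g :=
  congrArg (fun t => t.left) (Cpct.openOver.map_comp f g)

instance : (Cpct.isoOpen S).IsMultiplicative where
  id_mem A := by
    change IsIso (Cpct.restr (𝟙 A))
    rw [restr_id]
    infer_instance
  comp_mem f g hf hg := by
    change IsIso (Cpct.restr (f ≫ g))
    rw [restr_comp]
    haveI : IsIso (Cpct.restr f) := hf
    haveI : IsIso (Cpct.restr g) := hg
    infer_instance

theorem pair_hom_ext {A B : Cpct.Pair S} (f g : A ⟶ B)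
    (h : (Cpct.Pair.Hom.bar f).left = (Cpct.Pair.Hom.bar g).left) : f = g := by
  apply Cpct.Pair.Hom.ext
  exact Over.OverMorphism.ext h

/-- equality of the images under the open-part functor -/
theorem openFunctor_map_eq_iff {A B : Cpct.Pair S} (f g : A ⟶ B) :
    (Cpct.openFunctor S).map f = (Cpct.openFunctor S).map g ↔ Cpct.restr f = Cpct.restr g := by
  constructor
  · intro h
    have h1 := congrArg (fun t => t.hom.left) h
    exact h1
  · intro h
    apply ObjectProperty.hom_ext
    apply Over.OverMorphism.ext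
    exact h

theorem isInvertedBy_openFunctor : (Cpct.isoOpen S).IsInvertedBy (Cpct.openFunctor S) := by
  intro A B f hf
  haveI : IsIso (Cpct.restr f) := hf
  rw [← ObjectProperty.isIso_hom_iff]
  change IsIso (Cpct.openOver.map f)
  haveI : IsIso ((Over.forget S).map (Cpct.openOver.map f)) := hf
  exact isIso_of_reflects_iso _ (Over.forget S)

instance : (Cpct.openFunctor S).EssSurj where
  mem_essImage X := by
    obtain ⟨A, ⟨e⟩⟩ := X.property
    exact ⟨A, ⟨ObjectProperty.isoMk _ e⟩⟩

end Groth.Agent.Lib.Helper5.CpctLoc
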