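import Mathlib
import Groth.Agent.Lib.Helper5.CpctLoc.Basic

/-!
# Compactifications: morphisms with the same open part are equalized by a morphism whose open
part is an isomorphism (helper5)
-/
set_option autoImplicit false
universe u
open CategoryTheory CategoryTheory.Limits AlgebraicGeometry

namespace Groth.Agent.Lib.Helper5.CpctLoc

variable {S : Scheme.{u}}

theorem exists_equalizing {A B : Cpct.Pair S} (a b : A ⟶ B) (h : Cpct.restr a = Cpct.restr b) :
    ∃ (A' : Cpct.Pair S) (s : A' ⟶ A) (_ : Cpct.isoOpen S s), s ≫ a = s ≫ b := by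
  haveI := B.isProper
  haveI := A.isProper
  let a' : A.bar ⟶ B.bar := Cpct.Pair.Hom.bar a
  let b' : A.bar ⟶ B.bar := Cpct.Pair.Hom.bar b
  let ιE : equalizer a' b' ⟶ A.bar := equalizer.ι a' b'
  haveI : IsClosedImmersion ιE.left := isClosedImmersion_equalizer_ι_left a' b'
  have hE : IsProper (equalizer a' b').hom := by
    rw [← Over.w ιE]; infer_instance
  let A' : Cpct.Pair S := ⟨equalizer a' b', ιE.left ⁻¹ᵁ A.U, hE,
    ιE.left.isClosedEmbedding.isCompact_preimage A.isCompact⟩
  let s : A' ⟶ A := ⟨ιE, fun x hx => hx⟩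
  have hsa : s ≫ a = s ≫ b := by
    apply Cpct.Pair.Hom.ext
    exact equalizer.condition a' b'
  refine ⟨A', s, ?_, hsa⟩
  -- the open part of `s` is an isomorphism: a monomorphism with a section
  change IsIso (Cpct.restr s)
  have hmono : Mono (Cpct.restr s) := by
    haveI : Mono (Cpct.restr s ≫ A.U.ι) := by
      rw [restr_ι]
      change Mono (A'.U.ι ≫ ιE.left)
      infer_instance
    exact mono_of_mono (Cpct.restr s) A.U.ι
  -- the section
  let ιo : Cpct.openOver.obj A ⟶ A.bar := Over.homMk A.U.ι rfl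
  have hcond : ιo ≫ a' = ιo ≫ b' := by
    apply Over.OverMorphism.ext
    change A.U.ι ≫ (Cpct.Pair.Hom.bar a).left = A.U.ι ≫ (Cpct.Pair.Hom.bar b).left
    rw [← restr_ι, ← restr_ι, h]
  let l : Cpct.openOver.obj A ⟶ equalizer a' b' := equalizer.lift ιo hcond
  have hl : l.left ≫ ιE.left = A.U.ι := by
    have := congrArg (fun t => t.left) (equalizer.lift_ι ιo hcond)
    exact this
  have hrange : Set.range l.left ⊆ Set.range A'.U.ι := by
    rintro _ ⟨x, rfl⟩
    rw [Scheme.Opens.range_ι]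
    change ιE.left (l.left x) ∈ A.U
    rw [← Scheme.Hom.comp_apply, hl]
    exact x.2
  let σ : (A.U : Scheme.{u}) ⟶ (A'.U : Scheme.{u}) := IsOpenImmersion.lift A'.U.ι l.left hrange
  have hσ : σ ≫ A'.U.ι = l.left := IsOpenImmersion.lift_fac _ _ _
  have hsec : σ ≫ Cpct.restr s = 𝟙 _ := by
    rw [← cancel_mono A.U.ι, Category.assoc, restr_ι]
    change σ ≫ A'.U.ι ≫ ιE.left = _
    rw [← Category.assoc, hσ, Category.id_comp]
    exact hl
  haveI : IsSplitEpi (Cpct.restr s) := ⟨⟨⟨σ, hsec⟩⟩⟩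
  exact isIso_of_mono_of_isSplitEpi _

end Groth.Agent.Lib.Helper5.CpctLoc
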