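import Mathlib
import Groth.Agent.Lib.Helper5.CpctLoc.Basic

/-!
# Compactifications: the right Ore condition for morphisms whose open part is an isomorphism
(helper5)
-/
set_option autoImplicit false
universe u
open CategoryTheory CategoryTheory.Limits AlgebraicGeometry

namespace Groth.Agent.Lib.Helper5.CpctLoc

variable {S : Scheme.{u}}

/-- a morphism between proper `S`-schemes is proper -/
theorem isProper_bar_left {A B : Cpct.Pair S} (f : A ⟶ B) :
    IsProper (Cpct.Pair.Hom.bar f).left := by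
  haveI := A.isProper
  haveI := B.isProper
  haveI : IsProper ((Cpct.Pair.Hom.bar f).left ≫ B.bar.hom) := by
    rw [Over.w]; infer_instance
  exact MorphismProperty.of_postcomp (W := @IsProper) (W' := @IsSeparated)
    (Cpct.Pair.Hom.bar f).left B.bar.hom inferInstance inferInstance

theorem exists_rightFraction [QuasiSeparatedSpace S] {A B B' : Cpct.Pair S}
    (f : A ⟶ B') (s : B ⟶ B') (hs : Cpct.isoOpen S s) :
    ∃ (A' : Cpct.Pair S) (s' : A' ⟶ A) (_ : Cpct.isoOpen S s') (f' : A' ⟶ B),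
      s' ≫ f = f' ≫ s := by
  haveI := A.isProper
  haveI := B.isProper
  haveI := B'.isProper
  haveI hsi : IsIso (Cpct.restr s) := hs
  let fb : A.bar.left ⟶ B'.bar.left := (Cpct.Pair.Hom.bar f).left
  let sb : B.bar.left ⟶ B'.bar.left := (Cpct.Pair.Hom.bar s).left
  haveI : IsProper fb := isProper_bar_left f
  haveI : IsProper sb := isProper_bar_left s
  let p₁ : pullback fb sb ⟶ A.bar.left := pullback.fst fb sb
  let p₂ : pullback fb sb ⟶ B.bar.left := pullback.snd fb sb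
  have hcond : p₁ ≫ fb = p₂ ≫ sb := pullback.condition
  haveI hP : IsProper (p₁ ≫ A.bar.hom) := inferInstance
  haveI : QuasiSeparatedSpace ↥(pullback fb sb) :=
    quasiSeparatedSpace_of_quasiSeparated (p₁ ≫ A.bar.hom)
  have hcpt : IsCompact ((p₁ ⁻¹ᵁ A.U ⊓ p₂ ⁻¹ᵁ B.U : (pullback fb sb).Opens) :
      Set ↥(pullback fb sb)) := by
    refine QuasiSeparatedSpace.inter_isCompact _ _ (p₁ ⁻¹ᵁ A.U).isOpen ?_ (p₂ ⁻¹ᵁ B.U).isOpen ?_
    · exact QuasiCompact.isCompact_preimage (f := p₁) _ A.U.isOpen A.isCompact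
    · exact QuasiCompact.isCompact_preimage (f := p₂) _ B.U.isOpen B.isCompact
  let A' : Cpct.Pair S := ⟨Over.mk (p₁ ≫ A.bar.hom), p₁ ⁻¹ᵁ A.U ⊓ p₂ ⁻¹ᵁ B.U, hP, hcpt⟩
  have hw2 : p₂ ≫ B.bar.hom = p₁ ≫ A.bar.hom := by
    have h1 : sb ≫ B'.bar.hom = B.bar.hom := Over.w (Cpct.Pair.Hom.bar s)
    have h2 : fb ≫ B'.bar.hom = A.bar.hom := Over.w (Cpct.Pair.Hom.bar f)
    rw [← h1, ← h2, ← Category.assoc, ← Category.assoc, hcond]
  let s' : A' ⟶ A := ⟨Over.homMk p₁ rfl, fun x hx => hx.1⟩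
  let f' : A' ⟶ B := ⟨Over.homMk p₂ hw2, fun x hx => hx.2⟩
  have hsq : s' ≫ f = f' ≫ s := pair_hom_ext _ _ hcond
  refine ⟨A', s', ?_, f', hsq⟩
  change IsIso (Cpct.restr s')
  have hrs' : Cpct.restr s' ≫ A.U.ι = A'.U.ι ≫ p₁ := restr_ι s'
  have hrf' : Cpct.restr f' ≫ B.U.ι = A'.U.ι ≫ p₂ := restr_ι f'
  have hmono : Mono (Cpct.restr s') := by
    refine ⟨fun {T} z₁ z₂ hz => ?_⟩
    have hz' : z₁ ≫ Cpct.restr f' = z₂ ≫ Cpct.restr f' := by
      rw [← cancel_mono (Cpct.restr s), Category.assoc, Category.assoc, ← restr_comp, ← hsq,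
        restr_comp, ← Category.assoc, ← Category.assoc, hz]
    rw [← cancel_mono A'.U.ι]
    apply pullback.hom_ext
    · change (z₁ ≫ A'.U.ι) ≫ p₁ = (z₂ ≫ A'.U.ι) ≫ p₁
      rw [Category.assoc, Category.assoc, ← hrs', ← Category.assoc, ← Category.assoc, hz]
    · change (z₁ ≫ A'.U.ι) ≫ p₂ = (z₂ ≫ A'.U.ι) ≫ p₂
      rw [Category.assoc, Category.assoc, ← hrf', ← Category.assoc, ← Category.assoc, hz']
  -- the section
  have hm : A.U.ι ≫ fb = (Cpct.restr f ≫ inv (Cpct.restr s) ≫ B.U.ι) ≫ sb := by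
    have h1 : B.U.ι ≫ sb = Cpct.restr s ≫ B'.U.ι := (restr_ι s).symm
    have h2 : A.U.ι ≫ fb = Cpct.restr f ≫ B'.U.ι := (restr_ι f).symm
    rw [Category.assoc, Category.assoc, h1, IsIso.inv_hom_id_assoc, h2]
  let m : (A.U : Scheme.{u}) ⟶ pullback fb sb :=
    pullback.lift A.U.ι (Cpct.restr f ≫ inv (Cpct.restr s) ≫ B.U.ι) hm
  have hm1 : m ≫ p₁ = A.U.ι := pullback.lift_fst _ _ _
  have hm2 : m ≫ p₂ = Cpct.restr f ≫ inv (Cpct.restr s) ≫ B.U.ι := pullback.lift_snd _ _ _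
  have hrange : Set.range m ⊆ Set.range A'.U.ι := by
    rintro _ ⟨x, rfl⟩
    rw [Scheme.Opens.range_ι]
    refine ⟨?_, ?_⟩
    · change p₁ (m x) ∈ A.U
      rw [← Scheme.Hom.comp_apply, hm1]
      exact x.2
    · change p₂ (m x) ∈ B.U
      rw [← Scheme.Hom.comp_apply, hm2, ← Category.assoc, Scheme.Hom.comp_apply]
      exact ((Cpct.restr f ≫ inv (Cpct.restr s)) x).2
  let σ : (A.U : Scheme.{u}) ⟶ (A'.U : Scheme.{u}) := IsOpenImmersion.lift A'.U.ι m hrange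
  have hσ : σ ≫ A'.U.ι = m := IsOpenImmersion.lift_fac _ _ _
  have hsec : σ ≫ Cpct.restr s' = 𝟙 _ := by
    rw [← cancel_mono A.U.ι, Category.assoc, hrs', ← Category.assoc, hσ, Category.id_comp]
    exact hm1
  haveI : IsSplitEpi (Cpct.restr s') := ⟨⟨⟨σ, hsec⟩⟩⟩
  exact isIso_of_mono_of_isSplitEpi _

end Groth.Agent.Lib.Helper5.CpctLoc
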