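import Mathlib
import Groth.Agent.Lib.Helper5.CpctLoc.Basic

/-!
# Compactifications: every morphism of open parts is a right fraction (closure of the graph)
(helper5)
-/
set_option autoImplicit false
universe u
open CategoryTheory CategoryTheory.Limits AlgebraicGeometry

namespace Groth.Agent.Lib.Helper5.CpctLoc

variable {S : Scheme.{u}}

theorem exists_fraction_of_hom [QuasiSeparatedSpace S] {A B : Cpct.Pair S}
    (ψ : (Cpct.openFunctor S).obj A ⟶ (Cpct.openFunctor S).obj B) :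
    ∃ (A' : Cpct.Pair S) (s : A' ⟶ A) (_ : Cpct.isoOpen S s) (f : A' ⟶ B),
      (Cpct.openFunctor S).map s ≫ ψ = (Cpct.openFunctor S).map f := by
  haveI := A.isProper
  haveI := B.isProper
  let g : (A.U : Scheme.{u}) ⟶ (B.U : Scheme.{u}) := ψ.hom.left
  have hg : g ≫ B.U.ι ≫ B.bar.hom = A.U.ι ≫ A.bar.hom := Over.w ψ.hom
  let p₁ : pullback A.bar.hom B.bar.hom ⟶ A.bar.left := pullback.fst A.bar.hom B.bar.hom
  let p₂ : pullback A.bar.hom B.bar.hom ⟶ B.bar.left := pullback.snd A.bar.hom B.bar.hom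
  have hcond : p₁ ≫ A.bar.hom = p₂ ≫ B.bar.hom := pullback.condition
  have hj : A.U.ι ≫ A.bar.hom = (g ≫ B.U.ι) ≫ B.bar.hom := by
    rw [Category.assoc, hg]
  let j : (A.U : Scheme.{u}) ⟶ pullback A.bar.hom B.bar.hom :=
    pullback.lift A.U.ι (g ≫ B.U.ι) hj
  have hj1 : j ≫ p₁ = A.U.ι := pullback.lift_fst _ _ _
  have hj2 : j ≫ p₂ = g ≫ B.U.ι := pullback.lift_snd _ _ _
  haveI : CompactSpace ↥(A.U : Scheme.{u}) := isCompact_iff_compactSpace.mp A.isCompact
  haveI : QuasiSeparatedSpace ↥A.bar.left := quasiSeparatedSpace_of_quasiSeparated A.bar.hom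
  haveI : IsImmersion (j ≫ p₁) := by rw [hj1]; infer_instance
  haveI : IsImmersion j := IsImmersion.of_comp j p₁
  haveI : QuasiCompact (j ≫ p₁) := by rw [hj1]; infer_instance
  haveI : QuasiCompact j := QuasiCompact.of_comp j p₁
  let ιZ : j.image ⟶ pullback A.bar.hom B.bar.hom := j.imageι
  let t : (A.U : Scheme.{u}) ⟶ j.image := j.toImage
  have htι : t ≫ ιZ = j := j.toImage_imageι
  haveI : IsOpenImmersion t := inferInstance
  haveI : IsClosedImmersion ιZ := inferInstance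
  have hP : IsProper (ιZ ≫ p₁ ≫ A.bar.hom) := inferInstance
  have hcpt : IsCompact ((t.opensRange : j.image.Opens) : Set ↥j.image) := by
    change IsCompact (Set.range t)
    exact isCompact_range t.continuous
  let A' : Cpct.Pair S := ⟨Over.mk (ιZ ≫ p₁ ≫ A.bar.hom), t.opensRange, hP, hcpt⟩
  have hle1 : ∀ x, x ∈ A'.U → (ιZ ≫ p₁) x ∈ A.U := by
    rintro _ ⟨x₀, rfl⟩
    rw [← Scheme.Hom.comp_apply, ← Category.assoc, htι, hj1]
    exact x₀.2
  have hle2 : ∀ x, x ∈ A'.U → (ιZ ≫ p₂) x ∈ B.U := by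
    rintro _ ⟨x₀, rfl⟩
    rw [← Scheme.Hom.comp_apply, ← Category.assoc, htι, hj2, Scheme.Hom.comp_apply]
    exact (g x₀).2
  have hw2 : (ιZ ≫ p₂) ≫ B.bar.hom = ιZ ≫ p₁ ≫ A.bar.hom := by
    rw [Category.assoc, hcond]
  let s : A' ⟶ A := ⟨Over.homMk (ιZ ≫ p₁) (Category.assoc _ _ _), hle1⟩
  let f : A' ⟶ B := ⟨Over.homMk (ιZ ≫ p₂) hw2, hle2⟩
  let e : (A.U : Scheme.{u}) ≅ (A'.U : Scheme.{u}) := t.isoOpensRange
  have he : e.hom ≫ A'.U.ι = t := t.isoOpensRange_hom_ι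
  have hrs : Cpct.restr s ≫ A.U.ι = A'.U.ι ≫ ιZ ≫ p₁ := restr_ι s
  have hrf : Cpct.restr f ≫ B.U.ι = A'.U.ι ≫ ιZ ≫ p₂ := restr_ι f
  have hes : e.hom ≫ Cpct.restr s = 𝟙 _ := by
    rw [← cancel_mono A.U.ι, Category.assoc, hrs, ← Category.assoc, he, ← Category.assoc, htι,
      hj1, Category.id_comp]
  have hef : e.hom ≫ Cpct.restr f = g := by
    rw [← cancel_mono B.U.ι, Category.assoc, hrf, ← Category.assoc, he, ← Category.assoc, htι,
      hj2]
  have hsiso : IsIso (Cpct.restr s) := by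
    haveI : IsIso (e.hom ≫ Cpct.restr s) := by rw [hes]; infer_instance
    exact IsIso.of_isIso_comp_left e.hom (Cpct.restr s)
  refine ⟨A', s, hsiso, f, ?_⟩
  apply ObjectProperty.hom_ext
  apply Over.OverMorphism.ext
  change Cpct.restr s ≫ g = Cpct.restr f
  rw [← cancel_epi e.hom, ← Category.assoc, hes, Category.id_comp, hef]

end Groth.Agent.Lib.Helper5.CpctLoc
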