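import Mathlib

/-!
# A recognition criterion for localization functors, for a class of morphisms with a right
calculus of fractions (helper5)
-/
set_option autoImplicit false
universe v v' u u'
open CategoryTheory CategoryTheory.Limits

namespace Groth.Agent.Lib.Helper5.CpctLoc

variable {C : Type u} [Category.{v} C] {D : Type u'} [Category.{v'} D]

/-- a functor which inverts `W`, is faithful and full up to `W`-fractions and essentially
surjective, is a localization functor for `W` -/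
theorem isLocalization_of_rightFractions (L : C ⥤ D) (W : MorphismProperty C)
    [W.HasRightCalculusOfFractions]
    (ha : W.IsInvertedBy L)
    (hb : ∀ {X Y : C} (f₁ f₂ : X ⟶ Y), L.map f₁ = L.map f₂ →
      ∃ (X' : C) (s : X' ⟶ X) (_ : W s), s ≫ f₁ = s ≫ f₂)
    [L.EssSurj]
    (hd : ∀ {X Y : C} (ψ : L.obj X ⟶ L.obj Y),
      ∃ (X' : C) (s : X' ⟶ X) (_ : W s) (f : X' ⟶ Y), L.map s ≫ ψ = L.map f) :
    L.IsLocalization W := by
  let G : W.Localization ⥤ D := Localization.lift L ha W.Q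
  let fac : W.Q ⋙ G ≅ L := Localization.fac L ha W.Q
  haveI hQes : W.Q.EssSurj := Localization.essSurj W.Q W
  have hG : ∀ {X Y : C} (f : X ⟶ Y),
      G.map (W.Q.map f) = fac.hom.app X ≫ L.map f ≫ fac.inv.app Y := by
    intro X Y f
    have h := fac.hom.naturality f
    rw [Functor.comp_map] at h
    rw [← Category.assoc, ← h, Category.assoc, Iso.hom_inv_id_app, Category.comp_id]
  haveI : G.EssSurj :=
    ⟨fun d => ⟨W.Q.obj (L.objPreimage d), ⟨fac.app _ ≪≫ L.objObjPreimageIso d⟩⟩⟩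
  have hQinv : ∀ {X Y : C} (s : X ⟶ Y), W s → IsIso (W.Q.map s) :=
    fun s hs => Localization.inverts W.Q W s hs
  -- faithfulness on objects of the form `Q X`
  have hfaith : ∀ {X Y : C} (φ₁ φ₂ : W.Q.obj X ⟶ W.Q.obj Y), G.map φ₁ = G.map φ₂ → φ₁ = φ₂ := by
    intro X Y φ₁ φ₂ h
    obtain ⟨r₁, h1⟩ := Localization.exists_rightFraction W.Q W φ₁
    obtain ⟨r₂, h2⟩ := Localization.exists_rightFraction W.Q W φ₂
    obtain ⟨c, hc⟩ := MorphismProperty.HasRightCalculusOfFractions.exists_rightFraction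
      (W := W) (MorphismProperty.LeftFraction.mk r₁.s r₂.s r₂.hs)
    have hc' : c.s ≫ r₁.s = c.f ≫ r₂.s := hc
    have e1 : W.Q.map r₁.s ≫ φ₁ = W.Q.map r₁.f := by
      rw [h1]
      exact MorphismProperty.RightFraction.map_s_comp_map r₁ W.Q (Localization.inverts W.Q W)
    have e2 : W.Q.map r₂.s ≫ φ₂ = W.Q.map r₂.f := by
      rw [h2]
      exact MorphismProperty.RightFraction.map_s_comp_map r₂ W.Q (Localization.inverts W.Q W)
    have hu : W (c.s ≫ r₁.s) := W.comp_mem _ _ c.hs r₁.hs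
    have e1' : W.Q.map (c.s ≫ r₁.s) ≫ φ₁ = W.Q.map (c.s ≫ r₁.f) := by
      rw [Functor.map_comp, Category.assoc, e1, ← Functor.map_comp]
    have e2' : W.Q.map (c.s ≫ r₁.s) ≫ φ₂ = W.Q.map (c.f ≫ r₂.f) := by
      rw [hc', Functor.map_comp, Category.assoc, e2, ← Functor.map_comp]
    have h3 : G.map (W.Q.map (c.s ≫ r₁.f)) = G.map (W.Q.map (c.f ≫ r₂.f)) := by
      calc G.map (W.Q.map (c.s ≫ r₁.f))
          = G.map (W.Q.map (c.s ≫ r₁.s)) ≫ G.map φ₁ := by rw [← G.map_comp, e1']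
        _ = G.map (W.Q.map (c.s ≫ r₁.s)) ≫ G.map φ₂ := by rw [h]
        _ = G.map (W.Q.map (c.f ≫ r₂.f)) := by rw [← G.map_comp, e2']
    rw [hG, hG] at h3
    have h4 : L.map (c.s ≫ r₁.f) = L.map (c.f ≫ r₂.f) := by
      have h5 := (cancel_epi (fac.hom.app _)).1 h3
      exact (cancel_mono (fac.inv.app _)).1 h5
    obtain ⟨X', s, hs, hfs⟩ := hb _ _ h4
    haveI : IsIso (W.Q.map s) := hQinv s hs
    have h6 : W.Q.map (c.s ≫ r₁.f) = W.Q.map (c.f ≫ r₂.f) := by
      rw [← cancel_epi (W.Q.map s), ← Functor.map_comp, ← Functor.map_comp, hfs]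
    haveI : IsIso (W.Q.map (c.s ≫ r₁.s)) := hQinv _ hu
    rw [← cancel_epi (W.Q.map (c.s ≫ r₁.s)), e1', e2', h6]
  haveI : G.Faithful := by
    refine ⟨fun {A B} φ₁ φ₂ h => ?_⟩
    let eA := W.Q.objObjPreimageIso A
    let eB := W.Q.objObjPreimageIso B
    have h' : eA.hom ≫ φ₁ ≫ eB.inv = eA.hom ≫ φ₂ ≫ eB.inv := by
      apply hfaith
      rw [Functor.map_comp, Functor.map_comp, Functor.map_comp, Functor.map_comp, h]
    have h'' := (cancel_epi eA.hom).1 h'
    exact (cancel_mono eB.inv).1 h''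
  have hfull : ∀ {X Y : C} (ψ : G.obj (W.Q.obj X) ⟶ G.obj (W.Q.obj Y)),
      ∃ φ : W.Q.obj X ⟶ W.Q.obj Y, G.map φ = ψ := by
    intro X Y ψ
    obtain ⟨X', s, hs, f, hsf⟩ := hd (fac.inv.app X ≫ ψ ≫ fac.hom.app Y)
    haveI : IsIso (W.Q.map s) := hQinv s hs
    refine ⟨inv (W.Q.map s) ≫ W.Q.map f, ?_⟩
    have h1 : G.map (W.Q.map s) ≫ ψ = G.map (W.Q.map f) := by
      rw [hG, hG, ← hsf]
      simp only [Category.assoc, Iso.hom_inv_id_app]
      erw [Category.comp_id]
    rw [Functor.map_comp, Functor.map_inv, IsIso.inv_comp_eq]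
    exact h1.symm
  haveI : G.Full := by
    refine ⟨fun {A B} ψ => ?_⟩
    let eA := W.Q.objObjPreimageIso A
    let eB := W.Q.objObjPreimageIso B
    obtain ⟨φ, hφ⟩ := hfull (G.map eA.hom ≫ ψ ≫ G.map eB.inv)
    refine ⟨eA.inv ≫ φ ≫ eB.hom, ?_⟩
    rw [Functor.map_comp, Functor.map_comp, hφ]
    simp only [Category.assoc, ← Functor.map_comp, Iso.inv_hom_id]
    rw [← Category.assoc, ← Functor.map_comp, Iso.inv_hom_id, CategoryTheory.Functor.map_id,
      CategoryTheory.Functor.map_id, Category.id_comp, Category.comp_id]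
  haveI : G.IsEquivalence := { }
  exact Functor.IsLocalization.of_equivalence_target W.Q W L G.asEquivalence fac

end Groth.Agent.Lib.Helper5.CpctLoc
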