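import Mathlib
import Groth.Agent.Lib.Helper5.CpctLoc.Recog
import Groth.Agent.Lib.Helper5.CpctLoc.Equal
import Groth.Agent.Lib.Helper5.CpctLoc.Fib
import Groth.Agent.Lib.Helper5.CpctLoc.Graph

/-!
# Compactifications: the open-part functor is a localization (helper5)
-/
set_option autoImplicit false
universe u
open CategoryTheory CategoryTheory.Limits AlgebraicGeometry

namespace Groth.Agent.Lib.Helper5.CpctLoc

variable (S : Scheme.{u})

theorem hasRightCalculusOfFractions [QuasiSeparatedSpace S] :
    (Cpct.isoOpen S).HasRightCalculusOfFractions where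
  exists_rightFraction X Y φ := by
    obtain ⟨A', s', hs', f', h⟩ := exists_rightFraction φ.f φ.s φ.hs
    exact ⟨⟨s', hs', f'⟩, h⟩
  ext X Y Z f₁ f₂ s hs h := by
    haveI : IsIso (Cpct.restr s) := hs
    have h' : Cpct.restr f₁ = Cpct.restr f₂ := by
      rw [← cancel_mono (Cpct.restr s), ← restr_comp, ← restr_comp, h]
    exact exists_equalizing f₁ f₂ h'

theorem isLocalization_openFunctor [QuasiSeparatedSpace S] :
    (Cpct.openFunctor S).IsLocalization (Cpct.isoOpen S) := by
  haveI := hasRightCalculusOfFractions S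
  refine isLocalization_of_rightFractions (Cpct.openFunctor S) (Cpct.isoOpen S)
    isInvertedBy_openFunctor ?_ ?_
  · intro X Y f₁ f₂ h
    exact exists_equalizing f₁ f₂ ((openFunctor_map_eq_iff f₁ f₂).1 h)
  · intro X Y ψ
    exact exists_fraction_of_hom ψ

end Groth.Agent.Lib.Helper5.CpctLoc
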